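import Cfsg.Agent.Lib.GWApps.Structure
import Cfsg.Agent.Lib.GWApps.Basic
import Cfsg.Agent.Lib.Hall.Existence
import Cfsg.Agent.Lib.ClassicalLinear.Card
import Cfsg.Agent.S0804
import Cfsg.Agent.S0205
import Mathlib.GroupTheory.SchurZassenhaus

/-!
A finite group `G` with `60 ∣ |G|` and `60` prime to `|G| / 60` has a subgroup of order `60`,
given the Gorenstein-Walter theorem.
-/

set_option autoImplicit false
set_option linter.style.haveILetI false
open Cfsg

namespace CfsgLib.HallNumber

universe u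

/-- The Hall subgroup inside a solvable subgroup. -/
theorem exists_card_sixty_of_solvable {G : Type u} [Group G] [Finite G] {X : Subgroup G}
    (hX : Group.IsSolvable X) (h : 60 ∣ Nat.card X)
    (hc : Nat.Coprime 60 (Nat.card G / 60)) : ∃ H : Subgroup G, Nat.card H = 60 := by
  haveI := hX
  obtain ⟨H, hH⟩ := CfsgLib.Hall.exists_isPiHall (G := X) {p | p ∣ 60}
  obtain ⟨h1, h2⟩ := CfsgLib.Hall.isPiHall_iff.mp hH
  obtain ⟨k, hk⟩ := h
  have hco : Nat.Coprime k 60 := by
    refine (hc.coprime_dvd_right ?_).symm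
    obtain ⟨l, hl⟩ := Subgroup.card_subgroup_dvd_card X
    rw [hl, hk, mul_assoc, Nat.mul_div_cancel_left _ (by norm_num : 0 < 60)]
    exact dvd_mul_right k l
  refine ⟨H.map X.subtype, ?_⟩
  rw [Subgroup.card_map_of_injective X.subtype_injective]
  exact CfsgLib.Hall.eq_of_mul_eq_mul (H.card_mul_index.trans hk) h1 h2
    (CfsgLib.Hall.isPiNum_self 60) (CfsgLib.Hall.isPiNum_of_coprime hco)

/-- A group with a normal 2-subgroup of odd index is solvable. -/
theorem isSolvable_of_two_normal {R : Type u} [Group R] [Finite R] (V : Subgroup R) [V.Normal]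
    (hV : IsPGroup 2 V) (hodd : Odd V.index) : Group.IsSolvable R := by
  haveI : Fact (Nat.Prime 2) := ⟨Nat.prime_two⟩
  haveI := hV.isNilpotent
  haveI : Group.IsSolvable (R ⧸ V) := Cfsg.Agent.S0205.result (by rwa [← Subgroup.index_eq_card])
  exact Group.isSolvable_of_ker_le_range V.subtype (QuotientGroup.mk' V)
    (by rw [QuotientGroup.ker_mk', Subgroup.range_subtype])

variable {R : Type u} [Group R] [Finite R]

/-- With trivial odd core, `3` divides the order of the normaliser of a Sylow 2-subgroup of order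
four, unless the group is a 2-group. -/
theorem three_dvd_normalizer (hO : Cfsg.oddCore R = ⊥) (hnp : ¬ IsPGroup 2 R) (P : Sylow 2 R)
    (h4 : Nat.card (P : Subgroup R) = 4) :
    3 ∣ Nat.card (Subgroup.normalizer ((P : Subgroup R) : Set R)) := by
  classical
  haveI : Fact (Nat.Prime 2) := ⟨Nat.prime_two⟩
  by_contra h3
  set V := (P : Subgroup R)
  set X := Subgroup.normalizer (V : Set R)
  have hcomm : ∀ a b : V, a * b = b * a :=
    (IsPGroup.commutative_of_card_eq_prime_sq (p := 2) (G := V) (by rw [h4]; norm_num))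
  let P3 := {x : V // x ≠ 1}
  have hP3 : Nat.card P3 = 3 := by
    haveI := Fintype.ofFinite V
    rw [Nat.card_eq_fintype_card, Fintype.card_subtype_compl, Fintype.card_subtype_eq,
      ← Nat.card_eq_fintype_card, h4]
  let conjP : MulAut V →* Equiv.Perm P3 :=
    { toFun := fun φ => φ.toEquiv.subtypeEquiv fun x => not_congr (map_eq_one_iff φ φ.injective).symm
      map_one' := Equiv.ext fun x => rfl
      map_mul' := fun φ ψ => Equiv.ext fun x => rfl }
  let g : X →* Equiv.Perm P3 := conjP.comp (Subgroup.normalizerMonoidHom V)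
  have hVker : V.subgroupOf X ≤ g.ker := fun x hx => by
    refine MonoidHom.mem_ker.mpr (Equiv.ext fun y => Subtype.ext (Subtype.ext ?_))
    show (x : R) * ((y : V) : R) * (x : R)⁻¹ = ((y : V) : R)
    rw [show (x : R) * ((y : V) : R) = ((y : V) : R) * (x : R) from
      congrArg Subtype.val (hcomm ⟨x, hx⟩ (y : V)), mul_inv_cancel_right]
  have hodd : ¬ 2 ∣ (V.subgroupOf X).index := fun h =>
    P.not_dvd_index (h.trans (Subgroup.relIndex_dvd_index_of_le
      (Subgroup.le_normalizer : V ≤ X)))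
  have hdvd : g.ker.index ∣ (V.subgroupOf X).index := Subgroup.index_dvd_of_le hVker
  have hdvd6 : g.ker.index ∣ 6 := by
    rw [Subgroup.index_ker]
    have := Subgroup.card_subgroup_dvd_card g.range
    rwa [Nat.card_perm, hP3] at this
  have hX : g.ker.index ∣ Nat.card X := Subgroup.index_dvd_card _
  have h1 : g.ker.index = 1 := by
    have hm : g.ker.index ∈ Nat.divisors 6 := Nat.mem_divisors.mpr ⟨hdvd6, by norm_num⟩
    rw [show Nat.divisors 6 = {1, 2, 3, 6} by decide] at hm
    simp only [Finset.mem_insert, Finset.mem_singleton] at hm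
    rcases hm with h | h | h | h
    · exact h
    · exact absurd (h ▸ hdvd) hodd
    · exact absurd (h ▸ hX) h3
    · exact absurd ((show 3 ∣ 6 by norm_num).trans (h ▸ hX)) h3
  have hcent : X ≤ Subgroup.centralizer (V : Set R) := fun x hx => by
    refine Subgroup.mem_centralizer_iff.mpr fun v hv => ?_
    by_cases hv1 : v = 1
    · simp [hv1]
    have hk : (⟨x, hx⟩ : X) ∈ g.ker := by rw [Subgroup.index_eq_one.mp h1]; trivial
    have h2 := congrArg Subtype.val (congrArg Subtype.val (DFunLike.congr_fun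
      (MonoidHom.mem_ker.mp hk) (⟨⟨v, hv⟩, fun h => hv1 (congrArg Subtype.val h)⟩ : P3)))
    exact (mul_inv_eq_iff_eq_mul.mp (show x * v * x⁻¹ = v from h2)).symm
  have hcompl := MonoidHom.ker_transferSylow_isComplement' P hcent
  set K := (MonoidHom.transferSylow P hcent).ker
  have hKodd : Odd (Nat.card K) := by
    rw [Nat.odd_iff]
    have h2 : ¬ 2 ∣ Nat.card K := MonoidHom.not_dvd_card_ker_transferSylow P hcent
    omega
  have hKbot : K = ⊥ := CfsgLib.Cores.oddCore_eq_bot_iff.1 hO K inferInstance hKodd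
  refine hnp (IsPGroup.of_card (n := 2) ?_)
  have := hcompl.card_mul
  rw [hKbot, Subgroup.card_bot, one_mul, h4] at this
  rw [← this]
  norm_num

theorem exists_card_sixty (hGW : CfsgLib.GWApps.DihedralPerfect.{u}) {G : Type u} [Group G]
    [Finite G] (h : 60 ∣ Nat.card G) (hc : Nat.Coprime 60 (Nat.card G / 60)) :
    ∃ H : Subgroup G, Nat.card H = 60 := by
  classical
  by_cases hsolv : Group.IsSolvable G
  · have htop : Group.IsSolvable (⊤ : Subgroup G) := inferInstance
    exact exists_card_sixty_of_solvable htop (by rwa [Subgroup.card_top]) hc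
  haveI : Fact (Nat.Prime 2) := ⟨Nat.prime_two⟩
  obtain ⟨m, hm⟩ := h
  rw [hm, Nat.mul_div_cancel_left _ (by norm_num : 0 < 60)] at hc
  have hm2 : ¬ 2 ∣ m := (Nat.prime_two.coprime_iff_not_dvd).mp (hc.coprime_dvd_left (by norm_num))
  have hm3 : ¬ 3 ∣ m := (Nat.prime_three.coprime_iff_not_dvd).mp (hc.coprime_dvd_left (by norm_num))
  have hm5 : ¬ 5 ∣ m := (Nat.prime_five.coprime_iff_not_dvd).mp (hc.coprime_dvd_left (by norm_num))
  have h8 : ¬ 8 ∣ Nat.card G := by rw [hm]; omega
  have sylow4 : ∀ (Q : Type u) [Group Q] [Finite Q], 4 ∣ Nat.card Q → ¬ 8 ∣ Nat.card Q →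
      ∀ P : Sylow 2 Q, Nat.card (P : Subgroup Q) = 4 := fun Q _ _ hd hn P => by
    obtain ⟨k, hk⟩ := IsPGroup.iff_card.mp P.isPGroup'
    have h1 : 2 ^ 2 ∣ Nat.card (P : Subgroup Q) := P.pow_dvd_card_of_pow_dvd_card (by simpa using hd)
    rw [hk] at h1 ⊢
    have h2 : k < 3 := by
      by_contra hlt
      exact hn ((show (8 : ℕ) ∣ 2 ^ k from (Nat.pow_dvd_pow 2 (not_lt.mp hlt))).trans
        (hk ▸ Subgroup.card_subgroup_dvd_card (P : Subgroup Q)))
    have h3 := (Nat.pow_dvd_pow_iff_le_right (by norm_num : 1 < 2)).mp h1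
    obtain rfl : k = 2 := by omega
    rfl
  obtain ⟨S⟩ : Nonempty (Sylow 2 G) := inferInstance
  have hS4 := sylow4 G (by rw [hm]; omega) h8 S
  have hScyc : ¬ IsCyclic (S : Subgroup G) := fun hcyc => hsolv (by
    have hmin : Nat.minFac (Nat.card G) = 2 := by
      rw [Nat.minFac_eq_two_iff, hm]; omega
    have hN := IsCyclic.normalizer_le_centralizer (P := S) hmin hcyc
    haveI := hcyc
    haveI hcm : IsMulCommutative (S : Subgroup G) := IsCyclic.commutative
    haveI : Group.IsSolvable (MonoidHom.transferSylow S hN).ker := Cfsg.Agent.S0205.result (by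
      rw [Nat.odd_iff]
      have := MonoidHom.not_dvd_card_ker_transferSylow S hN
      omega)
    haveI : Group.IsSolvable (S : Subgroup G) :=
      Group.isSolvable_of_comm hcm.is_comm.comm
    exact Group.isSolvable_of_ker_le_range (MonoidHom.transferSylow S hN).ker.subtype
      (MonoidHom.transferSylow S hN) (by rw [Subgroup.range_subtype]))
  have hdih : GW.HasDihedralSylow G := by
    haveI : IsKleinFour (S : Subgroup G) := by
      refine ⟨hS4, ?_⟩
      exact (not_isCyclic_iff_exponent_eq_prime Nat.prime_two (by rw [hS4]; norm_num)).mp hScyc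
    haveI : IsKleinFour (DihedralGroup 2) := inferInstance
    exact ⟨S, 2, le_rfl, IsKleinFour.nonempty_mulEquiv⟩
  set O := Cfsg.oddCore G with hOdef
  haveI : O.Normal := by
    haveI := CfsgLib.Cores.pPrimeCore_characteristic 2 G
    rw [hOdef, Cfsg.oddCore]; infer_instance
  have hOodd : Odd (Nat.card O) := CfsgLib.Cores.odd_card_oddCore
  have hOR : Cfsg.oddCore (G ⧸ O) = ⊥ := CfsgLib.Cores.pPrimeCore_quotient_pPrimeCore 2
  set π := QuotientGroup.mk' O
  have hπ : Function.Surjective π := QuotientGroup.mk'_surjective O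
  have hcardG : Nat.card G = Nat.card (G ⧸ O) * Nat.card O := Subgroup.card_eq_card_quotient_mul_card_subgroup O
  have hnsR : ¬ Group.IsSolvable (G ⧸ O) := fun hs => hsolv (by
    haveI := hs
    haveI : Group.IsSolvable O := Cfsg.Agent.S0205.result hOodd
    exact Group.isSolvable_of_ker_le_range O.subtype π
      (by rw [QuotientGroup.ker_mk', Subgroup.range_subtype]))
  have hR8 : ¬ 8 ∣ Nat.card (G ⧸ O) := fun hd => h8 (hcardG ▸ hd.mul_right _)
  have hO4 : Nat.Coprime 4 (Nat.card O) :=
    Nat.Coprime.pow_left 2 (Nat.coprime_two_left.mpr hOodd)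
  have hR4 : 4 ∣ Nat.card (G ⧸ O) := hO4.dvd_of_dvd_mul_right (hcardG ▸ (by rw [hm]; omega))
  have hdR := CfsgLib.GWApps.hasDihedralSylow_quotient hdih O hOodd
  have hRnp : ¬ IsPGroup 2 (G ⧸ O) := fun hp => hnsR (by haveI := hp.isNilpotent; infer_instance)
  have hGW' : CfsgLib.GWApps.GWHyp.{u} := hGW
  obtain ⟨N, hNn, -, hN⟩ := (CfsgLib.GWApps.structure_of_gw hGW' hOR hdR).resolve_left hRnp
  rcases hN with ⟨F, iF, iT, hq, ⟨e⟩⟩ | ⟨⟨e⟩⟩
  swap
  · have h1 := Subgroup.card_subgroup_dvd_card N
    rw [Nat.card_congr e.toEquiv, nat_card_alternatingGroup, Nat.card_fin] at h1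
    exact absurd ((show 8 ∣ Nat.factorial 7 / 2 by decide).trans h1) hR8
  have hNcard : 2 * Nat.card N = Fintype.card F * (Fintype.card F ^ 2 - 1) := by
    rw [Nat.card_congr e.toEquiv]; exact CfsgLib.ClassicalLinear.card_PSL_two_of_odd rfl hq
  by_cases h5 : 5 ∣ Nat.card N
  · -- lift `A₅`
    obtain ⟨A, ⟨eA⟩⟩ := (Cfsg.Agent.S0804.result (F := F) rfl).mpr
      (hNcard ▸ h5.mul_left 2)
    set A' := (A.map e.symm.toMonoidHom).map N.subtype
    have hA60 : Nat.card A' = 60 := by
      rw [Subgroup.card_map_of_injective N.subtype_injective,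
        Subgroup.card_map_of_injective e.symm.injective, Nat.card_congr eA.toEquiv,
        nat_card_alternatingGroup, Nat.card_fin]
      rfl
    set K := A'.comap π
    have hOK : O ≤ K := by
      rw [show O = π.ker from (QuotientGroup.ker_mk' O).symm]; exact Subgroup.ker_le_comap π A'
    have hKidx : O.relIndex K = 60 := by
      have h1 := Subgroup.relIndex_ker K π
      rwa [QuotientGroup.ker_mk', Subgroup.map_comap_eq_self_of_surjective hπ, hA60] at h1
    have hRdvd : 60 ∣ Nat.card (G ⧸ O) := hA60 ▸ Subgroup.card_subgroup_dvd_card A'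
    have hcop : Nat.Coprime (Nat.card O) 60 := by
      refine (hc.coprime_dvd_right ?_).symm
      obtain ⟨l, hl⟩ := hRdvd
      rw [hl, hm, mul_assoc] at hcardG
      exact ⟨l, by rw [Nat.eq_of_mul_eq_mul_left (by norm_num) hcardG, mul_comm]⟩
    haveI : (O.subgroupOf K).Normal := inferInstance
    have hOc : Nat.card (O.subgroupOf K) = Nat.card O :=
      Nat.card_congr (Subgroup.subgroupOfEquivOfLe hOK).toEquiv
    obtain ⟨C, hC⟩ := Subgroup.exists_right_complement'_of_coprime (N := O.subgroupOf K)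
      (by rw [hOc, show (O.subgroupOf K).index = 60 from hKidx]; exact hcop)
    refine ⟨C.map K.subtype, ?_⟩
    rw [Subgroup.card_map_of_injective K.subtype_injective]
    apply Nat.eq_of_mul_eq_mul_left (Nat.card_pos (α := O.subgroupOf K))
    rw [hC.card_mul, ← Subgroup.card_mul_index (O.subgroupOf K)]
    exact congrArg _ hKidx
  -- Frattini argument
  have hN4 : 4 ∣ Nat.card N := by
    obtain ⟨k, hk⟩ := hq
    rw [hk] at hNcard
    have h1 : (2 * k + 1) ^ 2 - 1 = 4 * (k * (k + 1)) := by
      rw [show (2 * k + 1) ^ 2 = 4 * (k * (k + 1)) + 1 by ring]; omega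
    obtain ⟨j, hj⟩ := even_iff_two_dvd.mp (Nat.even_mul_succ_self k)
    rw [h1, hj, show (2 * k + 1) * (4 * (2 * j)) = 2 * (4 * ((2 * k + 1) * j)) by ring] at hNcard
    exact ⟨_, Nat.eq_of_mul_eq_mul_left (by norm_num) hNcard⟩
  obtain ⟨T⟩ : Nonempty (Sylow 2 N) := inferInstance
  have hT4 := sylow4 N hN4 (fun hd => hR8 (hd.trans (Subgroup.card_subgroup_dvd_card N))) T
  set V := (T : Subgroup N).map N.subtype
  have hV4 : Nat.card V = 4 := by rw [Subgroup.card_map_of_injective N.subtype_injective, hT4]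
  have hVp : IsPGroup 2 V := T.isPGroup'.map _
  have hVidx : ¬ 2 ∣ V.index := fun hd => hR8 (by
    rw [← Subgroup.card_mul_index V, hV4]
    exact Nat.mul_dvd_mul_left 4 hd)
  let P : Sylow 2 (G ⧸ O) := hVp.toSylow hVidx
  have hPV : (P : Subgroup (G ⧸ O)) = V := rfl
  set X := Subgroup.normalizer (V : Set (G ⧸ O))
  have hfr : X ⊔ N = ⊤ := Sylow.normalizer_sup_eq_top T
  have h3X : 3 ∣ Nat.card X := three_dvd_normalizer hOR hRnp P hV4
  have h4X : 4 ∣ Nat.card X := hV4 ▸ Subgroup.card_dvd_of_le (Subgroup.le_normalizer : V ≤ X)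
  haveI hXs : Group.IsSolvable X := by
    haveI : (V.subgroupOf X).Normal := Subgroup.normal_in_normalizer
    refine isSolvable_of_two_normal (V.subgroupOf X)
      (hVp.of_equiv (Subgroup.subgroupOfEquivOfLe Subgroup.le_normalizer).symm) ?_
    rw [← Nat.not_even_iff_odd, even_iff_two_dvd]
    exact fun hd => hVidx (hd.trans (Subgroup.relIndex_dvd_index_of_le
      (Subgroup.le_normalizer : V ≤ X)))
  set K := X.comap π
  have hKcard : Nat.card K = Nat.card X * Nat.card O := by
    have h1 := Subgroup.relIndex_ker K π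
    rw [QuotientGroup.ker_mk', Subgroup.map_comap_eq_self_of_surjective hπ] at h1
    have hOK : O ≤ K := by
      rw [show O = π.ker from (QuotientGroup.ker_mk' O).symm]; exact Subgroup.ker_le_comap π X
    rw [← h1, ← Subgroup.card_mul_index (O.subgroupOf K),
      Nat.card_congr (Subgroup.subgroupOfEquivOfLe hOK).toEquiv]
    exact mul_comm _ _
  have h5K : 5 ∣ Nat.card K := by
    have h5G : 5 ∣ Nat.card (G ⧸ O) * Nat.card O := hcardG ▸ (by rw [hm]; omega)
    have hRN : Nat.card (G ⧸ O) ∣ Nat.card N * Nat.card X := by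
      rw [← Subgroup.card_mul_index N]
      refine Nat.mul_dvd_mul_left _ ?_
      rw [← Subgroup.relIndex_top_right, ← hfr, Subgroup.relIndex_sup_right]
      exact Subgroup.index_dvd_card _
    rw [hKcard]
    rcases Nat.prime_five.dvd_mul.mp h5G with h1 | h1
    · rcases Nat.prime_five.dvd_mul.mp (h1.trans hRN) with h2 | h2
      · exact absurd h2 h5
      · exact h2.mul_right _
    · exact h1.mul_left _
  have hK60 : 60 ∣ Nat.card K := by
    have ha : 4 ∣ Nat.card K := hKcard ▸ h4X.mul_right _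
    have hb : 3 ∣ Nat.card K := hKcard ▸ h3X.mul_right _
    omega
  refine exists_card_sixty_of_solvable (X := K) ?_ hK60 (by
    rwa [hm, Nat.mul_div_cancel_left _ (by norm_num : 0 < 60)])
  haveI : Group.IsSolvable O := Cfsg.Agent.S0205.result hOodd
  exact Group.isSolvable_of_ker_le_range
    (Subgroup.inclusion (show O ≤ K from (QuotientGroup.ker_mk' O).ge.trans (Subgroup.ker_le_comap π X)))
    ((π.domRestrict K).codRestrict X fun x => x.2) (by
      intro x hx
      have hx1 : (x : G) ∈ O := by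
        rw [← QuotientGroup.eq_one_iff]
        exact congrArg Subtype.val (MonoidHom.mem_ker.mp hx)
      exact ⟨⟨x, hx1⟩, Subtype.ext rfl⟩)

end CfsgLib.HallNumber
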